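import Mathlib
import Cfsg.Agent.H346.DP.Cox
import Cfsg.Agent.H162.GaussMain
import Cfsg.Agent.H514.DP.Core

/-!
# S2465 (LIE/U): products of two `r`-elements, general part

* `pw_of_R1`, `pw_of_coord` : a simple group `S` with a surjection `π : Y → S` with central kernel, `Y` with a root
  group datum: every element of `S` is a product of two `r`-elements;
* `R1.of_exists`, `R1.of_squares` : the rank one property; `Nd`, `Nd.rp`, `Nd.R1` : a single node with coordinates.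
-/

set_option autoImplicit false
set_option linter.unusedSectionVars false

namespace Cfsg.Agent.H346.PwU

open CoxeterSystem Cfsg.Agent.ChevalleyStructure.CoxeterGeom Cfsg.Agent.Tits.Roots Cfsg.Agent.Tits.Core
  Cfsg.Agent.Tits.RootComb Cfsg.Agent.Nodes.Comb Cfsg.Agent.Nodes.Reps
  Cfsg.Agent.Nodes.BNOf Cfsg.Agent.Nodes.StabComb
  Cfsg.Agent.Nodes.RGDLib Cfsg.Agent.Nodes.Bruhat Cfsg.Agent.Nodes.OppDec
open Cfsg.Agent.H514.DP (PE IsPE PW)
open Cfsg.Agent.H162.GaussDec (R1 gauss_aux coord_R1)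
open Cfsg.Agent.OddHalf.NI.Mult (Coord rp_nn KK)

variable {I W Y : Type*} [Fintype I] [DecidableEq I] [Group W] [Group Y] {M : CoxeterMatrix I}
  {cs : CoxeterSystem M W} {A : I → I → ℤ} {h : IsCartan M A} {r : ℕ} {T : Subgroup Y} {n : I → Y}
  {X : (I → ℤ) → Subgroup Y}

/-- the elements outside the core of `B` are products of two `r`-elements -/
theorem pe_of_R1 [Finite W] [Finite Y] [Fact r.Prime] (R : RGD cs h r T n X) (hG : G1 cs h X = ⊤)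
    (hconn : ∀ J : Set I, J.Nonempty → J ≠ Set.univ → ∃ a ∈ J, ∃ b, b ∉ J ∧ M a b ≠ 2)
    {m : I → Y} (hmr : ∀ i, Rp cs R.nsys (cs.simple i) (m i)) (hm1 : ∀ i, R1 T X i (m i)) {g : Y}
    (hg : g ∉ (RGD.B cs h T X).normalCore) : PE r 2 g := by
  obtain ⟨x, v, hv, u, hu, e⟩ := gauss_aux R hG hconn hmr hm1 hg
  have hU : IsPE r u := by
    obtain ⟨k, hk⟩ := (RGD.isPGroup_Upos R) ⟨u, hu⟩
    exact ⟨k, congrArg Subtype.val hk⟩
  have hV : IsPE r v := by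
    have hR' := Cfsg.Agent.KFacts.RgdOpp.opp R
    obtain ⟨k, hk⟩ := (RGD.isPGroup_Upos hR') ⟨v, by rw [Cfsg.Agent.KFacts.RgdOpp.U_opp]; exact hv⟩
    exact ⟨k, congrArg Subtype.val hk⟩
  have h1 : PE r 2 (x * g * x⁻¹) := by
    rw [e]
    exact hV.pe.mul hU.pe
  have h3 := h1.conj x⁻¹
  rw [inv_inv] at h3
  have h2 : x⁻¹ * (x * g * x⁻¹) * x = g := by group
  rwa [h2] at h3

/-- **Simple groups with a root group datum (on a central extension).** -/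
theorem pw_of_R1 [Finite W] [Finite Y] [Fact r.Prime] [Nonempty I] (R : RGD cs h r T n X) (hG : G1 cs h X = ⊤)
    (hconn : ∀ J : Set I, J.Nonempty → J ≠ Set.univ → ∃ a ∈ J, ∃ b, b ∉ J ∧ M a b ≠ 2)
    {m : I → Y} (hmr : ∀ i, Rp cs R.nsys (cs.simple i) (m i)) (hm1 : ∀ i, R1 T X i (m i))
    {S : Type*} [Group S] [IsSimpleGroup S] (π : Y →* S) (hπ : Function.Surjective π)
    (hk : π.ker ≤ Subgroup.center Y) : PW r 2 S := by
  intro s
  obtain ⟨g, rfl⟩ := hπ s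
  by_cases hg : g ∈ (RGD.B cs h T X).normalCore
  · have h1 := Cfsg.Agent.H162.GaussMain.core_le_ker R π hπ hk hg
    rw [MonoidHom.mem_ker] at h1
    rw [h1]
    exact Cfsg.Agent.H514.DP.pe_one_elt 2
  · exact (pe_of_R1 R hG hconn hmr hm1 hg).map π

/-- the same with coordinates -/
theorem pw_of_coord [Finite W] [Finite Y] [Fact r.Prime] [Nonempty I] {F : I → Type*} [∀ i, Field (F i)]
    {s : ∀ i, Matrix.SpecialLinearGroup (Fin 2) (F i) →* Y} (R : RGD cs h r T n X) (hG : G1 cs h X = ⊤)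
    (C : Coord X F s)
    (hconn : ∀ J : Set I, J.Nonempty → J ≠ Set.univ → ∃ a ∈ J, ∃ b, b ∉ J ∧ M a b ≠ 2)
    {S : Type*} [Group S] [IsSimpleGroup S] (π : Y →* S) (hπ : Function.Surjective π)
    (hk : π.ker ≤ Subgroup.center Y) : PW r 2 S :=
  pw_of_R1 R hG hconn (m := fun i => s i (Cfsg.Agent.OddHalf.NI.Mult.nn 1)) (fun i => rp_nn R C i 1)
    (fun i => coord_R1 R C i) π hπ hk

/-- the same for a root group datum in the simple group itself -/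
theorem pw_of_coord' [Finite W] [Finite Y] [IsSimpleGroup Y] [Fact r.Prime] [Nonempty I] {F : I → Type*}
    [∀ i, Field (F i)] {s : ∀ i, Matrix.SpecialLinearGroup (Fin 2) (F i) →* Y} (R : RGD cs h r T n X)
    (hG : G1 cs h X = ⊤) (C : Coord X F s)
    (hconn : ∀ J : Set I, J.Nonempty → J ≠ Set.univ → ∃ a ∈ J, ∃ b, b ∉ J ∧ M a b ≠ 2) : PW r 2 Y :=
  pw_of_coord R hG C hconn (MonoidHom.id Y) Function.surjective_id (by
    intro x hx
    have h1 : x = 1 := hx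
    rw [h1]
    exact one_mem _)

/-! ### The rank one property -/

/-- the rank one property from the elements `v ∈ X_{-i} ∩ X_i m t⁻¹ X_i` -/
theorem R1.of_exists [Finite W] (R : RGD cs h r T n X) {i : I} {m : Y} (hm : Rp cs R.nsys (cs.simple i) m)
    (hex : ∀ t ∈ T ⊓ KK X (sr i), ∃ v ∈ X (-sr i), ∃ a ∈ X (sr i), ∃ b ∈ X (sr i), v = a * (m * t⁻¹) * b) :
    R1 T X i m := by
  intro y hy t ht
  obtain ⟨v, hv, a, ha, b, hb, e⟩ := hex t ht
  have htT : t ∈ T := (Subgroup.mem_inf.1 ht).1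
  have hy' : m * y * m⁻¹ ∈ X (sr i) := by
    have h1 := R.conj_mem hm (isRoot_sr cs h i).neg hy
    rwa [map_neg, rep_simple_sr, neg_neg] at h1
  have hcj : ∀ t ∈ T, ∀ x ∈ X (sr i), t * x * t⁻¹ ∈ X (sr i) := by
    intro t ht x hx
    have h1 := R.tor _ (isRoot_sr cs h i) t ht
    rw [← h1, conj_mem_cj]
    exact hx
  refine ⟨a * (m * y * m⁻¹)⁻¹, mul_mem ha (inv_mem hy'), v, hv, t⁻¹ * b⁻¹ * t, ?_, ?_⟩
  · have h1 := hcj t⁻¹ (inv_mem htT) b⁻¹ (inv_mem hb)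
    rwa [inv_inv] at h1
  · rw [e]
    group

/-- **Inverted tori.** If `m` inverts the (commutative) group `T_i = T ∩ ⟨X_i, X_{-i}⟩` and all its elements are squares,
then the rank one property holds. -/
theorem R1.of_squares [Finite W] (R : RGD cs h r T n X) {i : I} {m : Y} (hm : Rp cs R.nsys (cs.simple i) m)
    (hmK : m ∈ KK X (sr i)) (hinv : ∀ t ∈ T ⊓ KK X (sr i), m * t * m⁻¹ = t⁻¹)
    (hcomm : ∀ s ∈ T ⊓ KK X (sr i), ∀ t ∈ T ⊓ KK X (sr i), s * t = t * s)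
    (hsq : ∀ t ∈ T ⊓ KK X (sr i), ∃ s ∈ T ⊓ KK X (sr i), s * s = t) : R1 T X i m := by
  have hcj : ∀ t ∈ T, ∀ x, IsRoot cs h x → ∀ y ∈ X x, t * y * t⁻¹ ∈ X x := by
    intro t ht x hx y hy
    rw [← R.tor _ hx t ht, conj_mem_cj]
    exact hy
  -- one element
  obtain ⟨v₀, hv₀, hne⟩ : ∃ v ∈ X (-sr i), v ≠ 1 := by
    by_contra hcon
    push Not at hcon
    exact X_ne_bot R (isRoot_sr cs h i).neg ((Subgroup.eq_bot_iff_forall _).2 hcon)
  obtain ⟨a, ha, t₁, ht₁, b, hb, e⟩ := R.rk1 i v₀ hv₀ hne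
  -- `t₁ * n i = m * t₀⁻¹`
  obtain ⟨t₀, ht₀⟩ : ∃ t₀, t₀ = (m⁻¹ * (t₁ * n i))⁻¹ := ⟨_, rfl⟩
  have hmt : t₁ * n i = m * t₀⁻¹ := by rw [ht₀]; group
  have hmv : m * t₀⁻¹ = a⁻¹ * v₀ * b⁻¹ := by
    rw [← hmt, e]; group
  have ht₀T : t₀ ∈ T := by
    rw [ht₀]
    have h1 : Rp cs R.nsys (cs.simple i) (t₁ * n i) := by
      have h2 := (rp_of_mem (cs := cs) (hN := R.nsys) ht₁).mul (rp_simple cs R.nsys i)
      rwa [one_mul] at h2
    exact inv_mem (hm.unique h1)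
  have ht₀K : t₀ ∈ KK X (sr i) := by
    have h1 : t₀ = (m⁻¹ * (a⁻¹ * v₀ * b⁻¹))⁻¹ := by rw [← hmv]; group
    rw [h1]
    exact inv_mem (mul_mem (inv_mem hmK) (mul_mem (mul_mem (inv_mem (Subgroup.mem_sup_left ha))
      (Subgroup.mem_sup_right hv₀)) (inv_mem (Subgroup.mem_sup_left hb))))
  have ht₀' : t₀ ∈ T ⊓ KK X (sr i) := ⟨ht₀T, ht₀K⟩
  refine R1.of_exists R hm fun t ht => ?_
  obtain ⟨s, hs, hst⟩ := hsq (t * t₀⁻¹) (mul_mem ht (inv_mem ht₀'))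
  refine ⟨s * v₀ * s⁻¹, hcj s hs.1 _ (isRoot_sr cs h i).neg _ hv₀, s * a * s⁻¹, hcj s hs.1 _ (isRoot_sr cs h i) _ ha,
    s * b * s⁻¹, hcj s hs.1 _ (isRoot_sr cs h i) _ hb, ?_⟩
  have h1 : s * (m * t₀⁻¹) * s⁻¹ = m * t⁻¹ := by
    have h2 : s * m = m * s⁻¹ := by
      have h3 := hinv s⁻¹ (inv_mem hs)
      rw [inv_inv] at h3
      calc s * m = (m * s⁻¹ * m⁻¹) * m := by rw [h3]
        _ = m * s⁻¹ := by group
    have h4 : s⁻¹ * t₀⁻¹ * s⁻¹ = t⁻¹ := by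
      have h5 : t = s * s * t₀ := by rw [hst]; group
      have h6 := hcomm s hs t₀ ht₀'
      calc s⁻¹ * t₀⁻¹ * s⁻¹ = (s * (t₀ * s))⁻¹ := by group
        _ = (s * s * t₀)⁻¹ := by rw [← h6]; group
        _ = t⁻¹ := by rw [← h5]
    calc s * (m * t₀⁻¹) * s⁻¹ = (s * m) * t₀⁻¹ * s⁻¹ := by group
      _ = m * (s⁻¹ * t₀⁻¹ * s⁻¹) := by rw [h2]; group
      _ = m * t⁻¹ := by rw [h4]
  calc s * v₀ * s⁻¹ = s * (a * (t₁ * n i) * b) * s⁻¹ := by rw [e]; group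
    _ = s * a * s⁻¹ * (s * (m * t₀⁻¹) * s⁻¹) * (s * b * s⁻¹) := by rw [hmt]; group
    _ = _ := by rw [h1]


/-! ### A single node -/

section Node

open Cfsg.Agent.OddHalf.NI.Mult (up lo nn dg dgHom)

/-- coordinates at the node `i` -/
structure Nd (X : (I → ℤ) → Subgroup Y) (i : I) {K : Type*} [Field K]
    (s : Matrix.SpecialLinearGroup (Fin 2) K →* Y) : Prop where
  up : (X (sr i) : Set Y) = Set.range fun a => s (up a)
  lo : (X (-sr i) : Set Y) = Set.range fun a => s (lo a)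

variable {i : I} {K : Type*} [Field K] {s : Matrix.SpecialLinearGroup (Fin 2) K →* Y}

section

variable (C : Nd X i s)

include C

omit [Fintype I] in
theorem Nd.mem_up (a : K) : s (Cfsg.Agent.OddHalf.NI.Mult.up a) ∈ X (sr i) := by
  have h1 : s (Cfsg.Agent.OddHalf.NI.Mult.up a) ∈ (X (sr i) : Set Y) := by rw [C.up]; exact ⟨a, rfl⟩
  exact h1

omit [Fintype I] in
theorem Nd.mem_lo (a : K) : s (Cfsg.Agent.OddHalf.NI.Mult.lo a) ∈ X (-sr i) := by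
  have h1 : s (Cfsg.Agent.OddHalf.NI.Mult.lo a) ∈ (X (-sr i) : Set Y) := by rw [C.lo]; exact ⟨a, rfl⟩
  exact h1

omit [Fintype I] in
theorem Nd.exists_up {x : Y} (hx : x ∈ X (sr i)) : ∃ a, s (Cfsg.Agent.OddHalf.NI.Mult.up a) = x := by
  have h1 : x ∈ (X (sr i) : Set Y) := hx
  rw [C.up] at h1
  exact h1

omit [Fintype I] in
theorem Nd.exists_lo {x : Y} (hx : x ∈ X (-sr i)) : ∃ a, s (Cfsg.Agent.OddHalf.NI.Mult.lo a) = x := by
  have h1 : x ∈ (X (-sr i) : Set Y) := hx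
  rw [C.lo] at h1
  exact h1

omit [Fintype I] in
theorem Nd.cj_nn_le (x : Kˣ) : cj (s (nn x)) (X (sr i)) ≤ X (-sr i) := by
  intro y hy
  rw [mem_cj] at hy
  obtain ⟨a, ha⟩ := C.exists_up hy
  have e : y = s (nn x * Cfsg.Agent.OddHalf.NI.Mult.up a * (nn x)⁻¹) := by
    rw [map_mul, map_mul, map_inv, ha]; group
  rw [e, Cfsg.Agent.OddHalf.NI.Mult.nn_mul_up]
  exact C.mem_lo _

omit [Fintype I] in
theorem Nd.cj_nn_le' (x : Kˣ) : cj (s (nn x)) (X (-sr i)) ≤ X (sr i) := by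
  intro y hy
  rw [mem_cj] at hy
  obtain ⟨a, ha⟩ := C.exists_lo hy
  have e : y = s (nn x * Cfsg.Agent.OddHalf.NI.Mult.lo a * (nn x)⁻¹) := by
    rw [map_mul, map_mul, map_inv, ha]; group
  rw [e, Cfsg.Agent.OddHalf.NI.Mult.nn_mul_lo]
  exact C.mem_up _

omit [Fintype I] in
theorem Nd.cj_nn (x : Kˣ) : cj (s (nn x)) (X (sr i)) = X (-sr i) := by
  apply le_antisymm (C.cj_nn_le x)
  have h1 := cj_mono (s (nn x)) (C.cj_nn_le' (-x))
  rwa [← Cfsg.Agent.OddHalf.NI.Mult.nn_inv, map_inv, cj_cj_inv] at h1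

omit [Fintype I] in
theorem Nd.cj_nn' (x : Kˣ) : cj (s (nn x)) (X (-sr i)) = X (sr i) := by
  apply le_antisymm (C.cj_nn_le' x)
  have h1 := cj_mono (s (nn x)) (C.cj_nn_le (-x))
  rwa [← Cfsg.Agent.OddHalf.NI.Mult.nn_inv, map_inv, cj_cj_inv] at h1

omit [Fintype I] in
theorem Nd.KK_le_range : KK X (sr i) ≤ s.range := by
  unfold KK
  refine sup_le ?_ ?_
  · intro x hx
    obtain ⟨a, rfl⟩ := C.exists_up hx
    exact ⟨_, rfl⟩
  · intro x hx
    obtain ⟨a, rfl⟩ := C.exists_lo hx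
    exact ⟨_, rfl⟩

variable (R : RGD cs h r T n X)

include R

theorem Nd.rp [Finite W] (x : Kˣ) : Rp cs R.nsys (cs.simple i) (s (nn x)) := by
  have e : s (nn x) = s (Cfsg.Agent.OddHalf.NI.Mult.up (x : K)) *
      s (Cfsg.Agent.OddHalf.NI.Mult.lo (-((x⁻¹ : Kˣ) : K))) * s (Cfsg.Agent.OddHalf.NI.Mult.up (x : K)) := by
    rw [← map_mul, ← map_mul, ← Cfsg.Agent.OddHalf.NI.Mult.nn_eq]
  have h1 := C.cj_nn x
  have h2 := C.cj_nn' x
  rw [e] at h1 h2 ⊢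
  exact Cfsg.Agent.OddHalf.NI.Mult.rp_of_swap R (C.mem_up _) (C.mem_lo _) (C.mem_up _) h1 h2

theorem Nd.dg_mem_T [Finite W] (t : Kˣ) : s (dg t) ∈ T := by
  rw [Cfsg.Agent.OddHalf.NI.Mult.dg_eq, map_mul, map_inv]
  have h1 := (C.rp R t).mul (C.rp R 1).inv
  rw [mul_inv_cancel] at h1
  exact h1.mem_of_one

theorem Nd.exists_dg [Finite W] {t : Y} (ht : t ∈ T ⊓ KK X (sr i)) : ∃ d : Kˣ, s (dg d) = t := by
  obtain ⟨hgT, hgK⟩ := ht
  obtain ⟨m, rfl⟩ := C.KK_le_range hgK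
  rcases Cfsg.Agent.OddHalf.NI.Mult.bruhat m with ⟨a, t, rfl⟩ | ⟨a, x, b, rfl⟩
  · have h1 : s (Cfsg.Agent.OddHalf.NI.Mult.up a) ∈ T := by
      have e : s (Cfsg.Agent.OddHalf.NI.Mult.up a) =
          s (Cfsg.Agent.OddHalf.NI.Mult.up a * dg t) * (s (dg t))⁻¹ := by rw [map_mul]; group
      rw [e]
      exact mul_mem hgT (inv_mem (C.dg_mem_T R t))
    obtain ⟨k, hk⟩ := R.pgrp i ⟨_, C.mem_up a⟩
    have h2 := Cfsg.Agent.OddHalf.NI.Mult.eq_one_of_mem_T R h1 (k := k) (by simpa using congrArg Subtype.val hk)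
    rw [map_mul, h2, one_mul]
    exact ⟨t, rfl⟩
  · exfalso
    have h1 : Cell R.nsys cs h X (cs.simple i)
        (s (Cfsg.Agent.OddHalf.NI.Mult.up a * nn x * Cfsg.Agent.OddHalf.NI.Mult.up b)) := by
      rw [map_mul, map_mul]
      exact ((cell_of_rp (C.rp R x)).mul_left
        (RGD.X_le_B (isRoot_sr cs h i) (sr_nonneg i) (C.mem_up a))).mul_right
        (RGD.X_le_B (isRoot_sr cs h i) (sr_nonneg i) (C.mem_up b))
    have h2 : Cell R.nsys cs h X 1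
        (s (Cfsg.Agent.OddHalf.NI.Mult.up a * nn x * Cfsg.Agent.OddHalf.NI.Mult.up b)) :=
      cell_one_of_mem (RGD.T_le_B hgT)
    have h3 := Cell.unique R h1 h2
    have h6 := cs.length_simple i
    rw [h3, cs.length_one] at h6
    exact absurd h6 (by decide)

/-- **The rank one property of a node with coordinates.** -/
theorem Nd.R1 [Finite W] : R1 T X i (s (nn 1)) := by
  intro y hy t ht
  obtain ⟨c, rfl⟩ := C.exists_lo hy
  obtain ⟨d, rfl⟩ := C.exists_dg R ht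
  refine ⟨_, C.mem_up (c - (d : K)), _, C.mem_lo (-((d⁻¹ : Kˣ) : K)), _, C.mem_up ((d⁻¹ : Kˣ) : K), ?_⟩
  rw [← map_mul, ← map_mul, ← map_mul, ← map_mul, Cfsg.Agent.H162.GaussDec.sl_rank1]

end

end Node

end Cfsg.Agent.H346.PwU
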