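import Mathlib
import Cfsg.Prelude.Def_LieTypeChar
import Cfsg.Agent.H346.Pw.TwoOf
import Cfsg.Agent.OddHalf.NI.SUClosed
import Cfsg.Agent.Nodes.WittAll
import Cfsg.Agent.Nodes.TyChart
import Cfsg.Agent.H91.U.Std

/-!
# S2465 (LIE/U): products of two `r`-elements, unitary groups
-/

set_option autoImplicit false
set_option linter.unusedSectionVars false

namespace Cfsg.Agent.H346.PwU

open Cfsg.Agent.ChevalleyStructure.CoxeterGeom Cfsg.Agent.Tits.Roots
open Cfsg.Agent.Nodes Cfsg.Agent.Nodes.TypeC Cfsg.Agent.Nodes.Comb Cfsg.Agent.Nodes.Reps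
  Cfsg.Agent.Nodes.WittRoot Cfsg.Agent.Nodes.BNOf Cfsg.Agent.Nodes.WittRGD Cfsg.Agent.Nodes.RGDLib
open Cfsg.Agent.TitsThree Cfsg.Agent.TitsThree.Siegel Cfsg.Agent.TitsThree.WittFrame
  Cfsg.Agent.TitsThree.WittWeyl
open Cfsg.Agent.H514.DP (PW)
open Cfsg.Agent.H162.GaussDec (R1)
open Cfsg.Agent.OddHalf.NI.Mult (KK)

/-- `pw_of_R1` with the representatives chosen -/
theorem pw_of_exR1 {I W Y : Type*} [Fintype I] [DecidableEq I] [Group W] [Group Y] {M : CoxeterMatrix I}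
    {cs : CoxeterSystem M W} {A : I → I → ℤ} {h : IsCartan M A} {r : ℕ} {T : Subgroup Y} {n : I → Y}
    {X : (I → ℤ) → Subgroup Y} [Finite W] [Finite Y] [Fact r.Prime] [Nonempty I] (R : RGD cs h r T n X)
    (hG : G1 cs h X = ⊤)
    (hconn : ∀ J : Set I, J.Nonempty → J ≠ Set.univ → ∃ a ∈ J, ∃ b, b ∉ J ∧ M a b ≠ 2)
    (hm : ∀ i, ∃ m : Y, Rp cs R.nsys (cs.simple i) m ∧ R1 T X i m)
    {S : Type*} [Group S] [IsSimpleGroup S] (π : Y →* S) (hπ : Function.Surjective π)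
    (hk : π.ker ≤ Subgroup.center Y) : PW r 2 S := by
  choose m h1 h2 using hm
  exact pw_of_R1 R hG hconn h1 h2 π hπ hk

/-! ### The long nodes of a Witt frame -/

section Wt

open Cfsg.Agent.OddHalf.NI.WittCoord (ne_nx)
open Cfsg.Agent.OddHalf.NI.WittSL (SX SX_up SX_lo)

variable {F : Type*} [Field F] {V : Type*} [AddCommGroup V] [Module F V] {H : HForm F V} {n : ℕ}
  {Fr : Frame H (Fin n)} {G0 : Subgroup (V ≃ₗ[F] V)}

theorem SX_mem (hA : Amb Fr G0) {i : Fin n} (hi : (i : ℕ) + 1 < n) (g : Matrix.SpecialLinearGroup (Fin 2) F) :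
    SX Fr (ne_nx hi) g ∈ G0 := by
  have h1 : G0.comap (SX Fr (ne_nx hi)) = ⊤ := by
    refine Cfsg.Agent.OddHalf.NI.Mult.mem_of_up_lo (fun a => ?_) (fun a => ?_)
    · rw [Subgroup.mem_comap, SX_up]; exact hA.X_mem _ _ _
    · rw [Subgroup.mem_comap, SX_lo]; exact hA.X_mem _ _ _
  have h2 : g ∈ G0.comap (SX Fr (ne_nx hi)) := by rw [h1]; trivial
  exact h2

/-- the coordinates of the long nodes -/
theorem nd_long (hA : Amb Fr G0) {i : Fin n} (hi : (i : ℕ) + 1 < n) :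
    Nd (fun x => (rg Fr x).subgroupOf G0) i ((SX Fr (ne_nx hi)).codRestrict G0 (SX_mem hA hi)) where
  up := by
    ext ⟨g, hg⟩
    constructor
    · intro h
      have h1 := Subgroup.mem_subgroupOf.1 h
      rw [rg_sr, PG_ne Fr (ne_nx hi)] at h1
      obtain ⟨t, ht⟩ := h1
      refine ⟨t, Subtype.ext ?_⟩
      change SX Fr (ne_nx hi) (Cfsg.Agent.OddHalf.NI.Mult.up t) = g
      rw [SX_up]
      exact ht.symm
    · rintro ⟨a, ha⟩
      refine Subgroup.mem_subgroupOf.2 ?_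
      have h1 : SX Fr (ne_nx hi) (Cfsg.Agent.OddHalf.NI.Mult.up a) = g := congrArg Subtype.val ha
      rw [SX_up] at h1
      rw [rg_sr, PG_ne Fr (ne_nx hi)]
      exact ⟨a, h1.symm⟩
  lo := by
    ext ⟨g, hg⟩
    constructor
    · intro h
      have h1 := Subgroup.mem_subgroupOf.1 h
      rw [rg_neg_sr, PG_ne Fr (a := ng (i, true)) (b := ng (nx i)) (ne_nx hi),
        XG_swap Fr (a := ng (i, true)) (b := ng (nx i)) (ne_nx hi)] at h1
      obtain ⟨t, ht⟩ := h1
      refine ⟨t, Subtype.ext ?_⟩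
      change SX Fr (ne_nx hi) (Cfsg.Agent.OddHalf.NI.Mult.lo t) = g
      rw [SX_lo]
      exact ht.symm
    · rintro ⟨a, ha⟩
      refine Subgroup.mem_subgroupOf.2 ?_
      have h1 : SX Fr (ne_nx hi) (Cfsg.Agent.OddHalf.NI.Mult.lo a) = g := congrArg Subtype.val ha
      rw [SX_lo] at h1
      rw [rg_neg_sr, PG_ne Fr (a := ng (i, true)) (b := ng (nx i)) (ne_nx hi),
        XG_swap Fr (a := ng (i, true)) (b := ng (nx i)) (ne_nx hi)]
      exact ⟨a, h1.symm⟩

/-- the elements of `⟨X_i, X_{-i}⟩`, `i` the last node, fix the other frame vectors -/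
theorem fix_of_KK {i : Fin n} (hi : ¬ (i : ℕ) + 1 < n) {t : ↥G0}
    (ht : t ∈ KK (fun x => (rg Fr x).subgroupOf G0) (sr i)) {z : Fin n × Bool} (hz : z.1 ≠ i) :
    (t : V ≃ₗ[F] V) (Fr.b z) = Fr.b z := by
  have hnx : nx i = (i, true) := by unfold nx; rw [dif_neg hi]
  let P : Subgroup ↥G0 :=
    { carrier := {g | (g : V ≃ₗ[F] V) (Fr.b z) = Fr.b z}
      one_mem' := rfl
      mul_mem' := fun {a b} ha hb => by
        change (a : V ≃ₗ[F] V) ((b : V ≃ₗ[F] V) (Fr.b z)) = Fr.b z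
        change (a : V ≃ₗ[F] V) (Fr.b z) = Fr.b z at ha
        change (b : V ≃ₗ[F] V) (Fr.b z) = Fr.b z at hb
        rw [hb, ha]
      inv_mem' := fun {a} ha => by
        change (a : V ≃ₗ[F] V) (Fr.b z) = Fr.b z at ha
        change (a : V ≃ₗ[F] V).symm (Fr.b z) = Fr.b z
        rw [LinearEquiv.symm_apply_eq]
        exact ha.symm }
  have h1 : KK (fun x => (rg Fr x).subgroupOf G0) (sr i) ≤ P := by
    unfold KK
    refine sup_le ?_ ?_
    · intro g hg
      have h1 := Subgroup.mem_subgroupOf.1 hg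
      rw [rg_sr, hnx, PG_self] at h1
      obtain ⟨p, hp⟩ := h1
      change (g : V ≃ₗ[F] V) (Fr.b z) = Fr.b z
      rw [hp]
      exact Z_apply_of_ne Fr (fun h => hz (congrArg Prod.fst h)) p
    · intro g hg
      have h1 := Subgroup.mem_subgroupOf.1 hg
      rw [rg_neg_sr, hnx, PG_self] at h1
      obtain ⟨p, hp⟩ := h1
      change (g : V ≃ₗ[F] V) (Fr.b z) = Fr.b z
      rw [hp]
      exact Z_apply_of_ne Fr (fun h => hz (congrArg Prod.fst h)) p
  exact h1 ht

/-- **The last node**: it suffices that the Weyl elements `nn * t⁻¹`, `t ∈ T ∩ ⟨X_i, X_{-i}⟩`, are elements `nZ`. -/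
theorem R1_last [Finite V] {p : ℕ} [Fact p.Prime] [CharP F p] (hA : Amb Fr G0) {p0 : Fr.Adm} (hp0 : p0.c ≠ 0)
    {W : Type*} [Group W] [Finite W] {cs : CoxeterSystem (CoxeterMatrix.B n) W} {i : Fin n}
    (hi : ¬ (i : ℕ) + 1 < n)
    (R : RGD cs (isCartan n) p ((Tor Fr G0).subgroupOf G0)
      (fun i => (⟨WittRGD.nn Fr p0 i, WittAll.nn_mem (WittAll.AmbT.of_amb hA p) p0 i⟩ : ↥G0))
      (fun x => (rg Fr x).subgroupOf G0))
    (hex : ∀ g ∈ G0, (∀ z : Fin n × Bool, z.1 ≠ i → g (Fr.b z) = Fr.b z) →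
      (∃ l : F, l ≠ 0 ∧ g (Fr.b (i, true)) = l • Fr.b (i, false)) →
      (∃ l : F, l ≠ 0 ∧ g (Fr.b (i, false)) = l • Fr.b (i, true)) → ∃ p : Fr.Adm, g = nZ Fr (i, true) p) :
    ∃ m : ↥G0, Rp cs R.nsys (cs.simple i) m ∧ R1 ((Tor Fr G0).subgroupOf G0) (fun x => (rg Fr x).subgroupOf G0) i m := by
  have hnx : nx i = (i, true) := by unfold nx; rw [dif_neg hi]
  refine ⟨_, rp_simple cs R.nsys i, R1.of_exists R (rp_simple cs R.nsys i) fun t ht => ?_⟩
  obtain ⟨htT, htK⟩ := ht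
  have ht1 : (t : V ≃ₗ[F] V) ∈ Tor Fr G0 := Subgroup.mem_subgroupOf.1 htT
  have hmono : Mono Fr (WittRGD.nn Fr p0 i * (t : V ≃ₗ[F] V)⁻¹) (sg i) :=
    ((mono_nn hp0 i).mul (ht1.2.inv (fun _ => rfl))).congr fun x => rfl
  have hnn : WittRGD.nn Fr p0 i = nZ Fr (i, true) p0 := by unfold WittRGD.nn; rw [if_neg hi]
  obtain ⟨q, hq⟩ := hex (WittRGD.nn Fr p0 i * (t : V ≃ₗ[F] V)⁻¹)
    (mul_mem (WittAll.nn_mem (WittAll.AmbT.of_amb hA p) p0 i) (inv_mem t.2)) (by
      intro z hz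
      have h1 := fix_of_KK hi htK hz
      have h2 : (t : V ≃ₗ[F] V)⁻¹ (Fr.b z) = Fr.b z := by
        change (t : V ≃ₗ[F] V).symm (Fr.b z) = Fr.b z
        rw [LinearEquiv.symm_apply_eq]
        exact h1.symm
      change WittRGD.nn Fr p0 i ((t : V ≃ₗ[F] V)⁻¹ (Fr.b z)) = Fr.b z
      rw [h2, hnn]
      exact nZ_apply_of_ne Fr hz p0) (by
      obtain ⟨l, hl, e⟩ := hmono (i, true)
      rw [sg_last hi] at e
      exact ⟨l, hl, e⟩) (by
      obtain ⟨l, hl, e⟩ := hmono (i, false)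
      rw [sg_last hi] at e
      exact ⟨l, hl, e⟩)
  have hZ : ∀ x : Fin n × Bool, ∀ p, Fr.Z x p ∈ G0 := hA.Z_mem
  have hup : ∀ q : Fr.Adm, (⟨Fr.Z (i, true) q, hZ _ q⟩ : ↥G0) ∈ (rg Fr (sr i)).subgroupOf G0 := by
    intro q
    refine Subgroup.mem_subgroupOf.2 ?_
    rw [rg_sr, hnx, PG_self]
    exact ⟨q, rfl⟩
  have hlo : ∀ q : Fr.Adm, (⟨Fr.Z (neg (i, true)) q, hZ _ q⟩ : ↥G0) ∈ (rg Fr (-sr i)).subgroupOf G0 := by
    intro q
    refine Subgroup.mem_subgroupOf.2 ?_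
    rw [rg_neg_sr, hnx, PG_self]
    exact ⟨q, rfl⟩
  refine ⟨_, hlo (Frame.Adm.smul (-(Fr.η (i, true) * (H.σ q.c)⁻¹)) q), _, inv_mem (hup q), _,
    inv_mem (hup (Frame.Adm.smul (H.ε * q.c * (H.σ q.c)⁻¹) q)), Subtype.ext ?_⟩
  change Fr.Z (neg (i, true)) (Frame.Adm.smul (-(Fr.η (i, true) * (H.σ q.c)⁻¹)) q) =
    (Fr.Z (i, true) q)⁻¹ * (WittRGD.nn Fr p0 i * (t : V ≃ₗ[F] V)⁻¹) *
      (Fr.Z (i, true) (Frame.Adm.smul (H.ε * q.c * (H.σ q.c)⁻¹) q))⁻¹
  rw [hq, nZ]
  group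

end Wt

/-! ### Unitary groups -/

section PSU

open Cfsg.Agent.TitsThree.SiegelGen Cfsg.Agent.TitsThree.WBridge Cfsg.Agent.TitsThree.FrameCN
  Cfsg.Agent.TitsThree.KSideU Cfsg.Agent.TitsThree.KSideUDesc
open Cfsg.Agent.LieClassical.HermBasic
open Cfsg.Agent.OddHalf.NI
open Cfsg

variable {F : Type*} [Field F] [Fintype F] {q N m : ℕ} (hF : Fintype.card F = q ^ 2)

include hF

/-- elements of `SU` fixing the frame of an odd dimensional space are trivial -/
theorem eq_one_odd {W : WFrame (PU hF N) m} {d : Fin N → F} (hd : hermForm N F q d d = 1)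
    (hW : W.V0 = Submodule.span F {d}) {k : (Fin N → F) ≃ₗ[F] (Fin N → F)} (hk : k ∈ IU F q N)
    (hb : ∀ z, k ((toFrame W).b z) = (toFrame W).b z) : k = 1 := by
  have hA := WittU.amb_U hF W
  have hdV : d ∈ W.V0 := by rw [hW]; exact Submodule.mem_span_singleton_self d
  have hkd : k d ∈ W.V0 :=
    hA.map_V0 hk (π := id) (ρ := id) (fun x => ⟨1, one_ne_zero, by rw [_root_.one_smul]; exact hb x⟩)
      (fun _ => rfl) hdV
  rw [hW] at hkd
  obtain ⟨μ, hμ⟩ := Submodule.mem_span_singleton.1 hkd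
  have hdet : LinearEquiv.det k = 1 := by
    have h1 := (Cfsg.Agent.H91.U.SIso_sB hF N).ge hk
    exact h1.1
  -- `k` is a transvection
  let f : Module.Dual F (Fin N → F) :=
    { toFun := fun v => (μ - 1) * hermForm N F q v d
      map_add' := fun v w => by rw [herm_add_left]; ring
      map_smul' := fun c v => by rw [herm_smul_left, RingHom.id_apply, smul_eq_mul]; ring }
  have hf : ∀ v, f v = (μ - 1) * hermForm N F q v d := fun _ => rfl
  have he : ∀ i, hermForm N F q (W.e i) d = 0 := fun i => W.eV0 i hdV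
  have hff : ∀ i, hermForm N F q (W.f i) d = 0 := fun i => W.fV0 i hdV
  have hfe : ∀ i, f (W.e i) = 0 := fun i => by rw [hf, he, mul_zero]
  have hffi : ∀ i, f (W.f i) = 0 := fun i => by rw [hf, hff, mul_zero]
  have htr : (k : (Fin N → F) →ₗ[F] (Fin N → F)) = LinearMap.transvection f d := by
    refine LinearMap.ext fun v => ?_
    obtain ⟨a, b, w, hw, rfl⟩ := W.span v
    rw [hW] at hw
    obtain ⟨c, rfl⟩ := Submodule.mem_span_singleton.1 hw
    have h1 : ∀ i, k (W.e i) = W.e i := fun i => hb (i, true)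
    have h2 : ∀ i, k (W.f i) = W.f i := fun i => hb (i, false)
    rw [LinearMap.transvection.apply]
    change k _ = _
    rw [map_add, map_add, map_add, map_add, map_sum, map_sum, map_sum, map_sum]
    simp only [map_smul, h1, h2, hfe, hffi, smul_zero, Finset.sum_const_zero, zero_add, ← hμ]
    rw [hf, hd, mul_one, smul_eq_mul]
    module
  have hμ1 : μ = 1 := by
    have h1 : LinearMap.det (k : (Fin N → F) →ₗ[F] (Fin N → F)) = 1 := by
      rw [← LinearEquiv.coe_det, hdet, Units.val_one]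
    rw [htr, LinearMap.transvection.det, hf, hd, mul_one] at h1
    linear_combination h1
  refine Amb.eq_one_of_fix hA hb fun w hw => ?_
  have hw' : w ∈ Submodule.span F {d} := by rw [← hW]; exact hw
  obtain ⟨c, rfl⟩ := Submodule.mem_span_singleton.1 hw'
  rw [map_smul, ← hμ, hμ1, _root_.one_smul]

/-- the Weyl elements of the last node, odd dimension -/
theorem exists_nZ_odd {W : WFrame (PU hF N) m} {d : Fin N → F} (hd : hermForm N F q d d = 1)
    (hW : W.V0 = Submodule.span F {d}) {i : Fin m} {g : (Fin N → F) ≃ₗ[F] (Fin N → F)} (hg : g ∈ IU F q N)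
    (h1 : ∀ z : Fin m × Bool, z.1 ≠ i → g ((toFrame W).b z) = (toFrame W).b z)
    (h2 : ∃ l : F, l ≠ 0 ∧ g ((toFrame W).b (i, true)) = l • (toFrame W).b (i, false))
    (h3 : ∃ l : F, l ≠ 0 ∧ g ((toFrame W).b (i, false)) = l • (toFrame W).b (i, true)) :
    ∃ p : (toFrame W).Adm, g = nZ (toFrame W) (i, true) p := by
  have hA := WittU.amb_U hF W
  have hdV : d ∈ W.V0 := by rw [hW]; exact Submodule.mem_span_singleton_self d
  obtain ⟨l, hl, e2⟩ := h2
  obtain ⟨l', hl', e3⟩ := h3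
  -- the admissible pair
  obtain ⟨c, hc⟩ : ∃ c : F, c ^ q = l⁻¹ := ⟨(l⁻¹) ^ q, pow_q_pow_q hF _⟩
  have hc0 : c ≠ 0 := by
    rintro rfl
    rw [zero_pow_q hF] at hc
    exact inv_ne_zero hl hc.symm
  obtain ⟨α, hα⟩ := exists_norm_eq hF (c := -(c + c ^ q)) (by
    rw [neg_pow_q hF, add_pow_q hF, pow_q_pow_q hF, add_comm])
  have hok : (toFrame W).ok (α • d) c := by
    refine ⟨W.V0.smul_mem _ hdV, ?_⟩
    rw [ok_iff, herm_smul_left, herm_smul_right, hd, mul_one, hα]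
    ring
  let p : (toFrame W).Adm := ⟨α • d, c, hok⟩
  refine ⟨p, ?_⟩
  have hnZ : nZ (toFrame W) (i, true) p ∈ IU F q N := 
    mul_mem (mul_mem (hA.Z_mem _ _) (hA.Z_mem _ _)) (hA.Z_mem _ _)
  have key : (nZ (toFrame W) (i, true) p)⁻¹ * g = 1 := by
    refine eq_one_odd hF hd hW (mul_mem (inv_mem hnZ) hg) fun z => ?_
    have hs : ∀ v w : Fin N → F, nZ (toFrame W) (i, true) p w = g v →
        ((nZ (toFrame W) (i, true) p)⁻¹ * g) v = w := by
      intro v w h
      change (nZ (toFrame W) (i, true) p).symm (g v) = w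
      rw [LinearEquiv.symm_apply_eq]
      exact h.symm
    have hx : g ((toFrame W).b (i, true)) = nZ (toFrame W) (i, true) p ((toFrame W).b (i, true)) := by
      rw [e2, nZ_apply_self _ _ _ hc0]
      change _ = ((1 : F) * (1 : F)⁻¹ * (c ^ q)⁻¹) • (toFrame W).b (i, false)
      rw [hc, inv_inv, inv_one, one_mul, one_mul]
    by_cases hz : z.1 = i
    · obtain ⟨j, s⟩ := z
      simp only at hz
      subst hz
      cases s
      · -- isometry
        refine hs _ _ ?_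
        have h4 : nZ (toFrame W) (j, true) p ((toFrame W).b (j, false)) = (1 * c) • (toFrame W).b (j, true) :=
          nZ_apply_neg (toFrame W) (j, true) p hc0
        have h5 : l' = c := by
          have h6 := hA.iso g hg ((toFrame W).b (j, true)) ((toFrame W).b (j, false))
          have h7 := hA.iso _ hnZ ((toFrame W).b (j, true)) ((toFrame W).b (j, false))
          rw [← h7, ← hx, e3, h4, one_mul, HForm.smul_right, HForm.smul_right, e2, HForm.smul_left] at h6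
          have h8 : (HU hF N).h ((toFrame W).b (j, false)) ((toFrame W).b (j, true)) = 1 := by
            have h9 := (toFrame W).hb_neg_self (j, true)
            exact h9
          rw [h8, mul_one] at h6
          have h10 := mul_right_cancel₀ hl h6
          exact (HU hF N).σ.injective h10
        rw [h4, one_mul, e3, h5]
      · exact hs _ _ hx.symm
    · refine hs _ _ ?_
      rw [h1 z hz]
      exact nZ_apply_of_ne _ hz p
  exact (inv_mul_eq_one.1 key).symm

omit hF in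
theorem pw_psu {r : ℕ} [Fact r.Prime] {S : Type*} [Group S] [IsSimpleGroup S] (h : IsPSUChar r S) : PW r 2 S := by
  obtain ⟨F, _, _, _, N, q, hF, hN, -, ⟨e⟩⟩ := h
  obtain ⟨m, hm⟩ : ∃ m, N = 2 * m ∨ N = 2 * m + 1 := ⟨N / 2, by omega⟩
  have : Finite (CoxeterMatrix.B m).Group := TypeC.finite_W (CoxeterMatrix.B m).toCoxeterSystem
  have : Finite ((Fin N → F) ≃ₗ[F] (Fin N → F)) :=
    Finite.of_injective (fun g : (Fin N → F) ≃ₗ[F] (Fin N → F) => (g : (Fin N → F) → (Fin N → F)))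
      DFunLike.coe_injective
  have : Nonempty (Fin m) := ⟨⟨0, by omega⟩⟩
  have hkc : ∀ {W : WFrame (PU hF N) m} (g : ↥(IU F q N)), (e.symm.toMonoidHom.comp (toPSU F q N)) g = 1 →
      g ∈ Subgroup.center ↥(IU F q N) := by
    intro W g hg
    have h1 : toPSU F q N g = 1 := e.symm.injective (by rw [map_one]; exact hg)
    exact WittAll.ker_le_center (KInstU.model hF hN W) h1
  have hG1 : ∀ (W : WFrame (PU hF N) m), G1 (CoxeterMatrix.B m).toCoxeterSystem (isCartan m)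
      (fun x => (rg (toFrame W) x).subgroupOf (IU F q N)) = ⊤ := by
    intro W
    refine SUClosed.gen_IU hF W hN (by omega) _ ?_ ?_
    · intro i
      exact X_le_G1 (X := fun x => (rg (toFrame W) x).subgroupOf (IU F q N)) (isRoot_sr _ _ i)
    · intro i
      exact X_le_G1 (X := fun x => (rg (toFrame W) x).subgroupOf (IU F q N)) (isRoot_sr _ _ i).neg
  rcases hm with hm | hm
  · obtain ⟨W, hW⟩ := exists_wframe_even hF hm
    obtain ⟨p0, hp0, -⟩ := WittU.exists_adm hF W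
    obtain ⟨δ, L⟩ := SUClosed.exists_LF hF W hW
    have hA := WittU.amb_U hF W
    have hAT := WittAll.AmbT.of_amb hA r
    have R := rgd_restrict (WittAll.rgdC hAT hp0 (CoxeterMatrix.B m).toCoxeterSystem) (IU F q N)
      (fun x _ => hA.rg_le x) (fun i => WittAll.nn_mem hAT p0 i)
    exact pw_of_coord R (hG1 W) (WittCoord.coord L hA) (Chart.Ty.irrC m (by omega))
      (e.symm.toMonoidHom.comp (toPSU F q N)) (e.symm.surjective.comp toPSU_surjective) (fun g hg => hkc (W := W) g hg)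
  · obtain ⟨W, d, hd, hW⟩ := exists_wframe_odd hF hm
    obtain ⟨p0, hp0, -⟩ := WittU.exists_adm hF W
    have hA := WittU.amb_U hF W
    have hAT := WittAll.AmbT.of_amb hA r
    have R := rgd_restrict (WittAll.rgdC hAT hp0 (CoxeterMatrix.B m).toCoxeterSystem) (IU F q N)
      (fun x _ => hA.rg_le x) (fun i => WittAll.nn_mem hAT p0 i)
    refine pw_of_exR1 R (hG1 W) (Chart.Ty.irrC m (by omega)) (fun i => ?_)
      (e.symm.toMonoidHom.comp (toPSU F q N)) (e.symm.surjective.comp toPSU_surjective) (fun g hg => hkc (W := W) g hg)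
    by_cases hi : (i : ℕ) + 1 < m
    · exact ⟨_, (nd_long hA hi).rp R 1, (nd_long hA hi).R1 R⟩
    · exact R1_last hA hp0 hi R fun g hg h1 h2 h3 => exists_nZ_odd hF hd hW hg h1 h2 h3

end PSU

end Cfsg.Agent.H346.PwU
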