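import Cfsg.Agent.H346.Pw.TwoCls
import Cfsg.Agent.H346.Pw.TwoU
import Cfsg.Agent.H346.Pw.TwoE
import Cfsg.Agent.H346.Pw.TwoF
import Cfsg.Agent.H773.Pw.TwU
import Cfsg.Agent.H335.Pw.Small
import Cfsg.Agent.H335.Pw.Own
import Cfsg.Agent.H538.Pw.LTwo
import Cfsg.Agent.H538.Pw.SixGTwo
import Cfsg.Agent.H538.Pw.SixDFour
import Cfsg.Agent.H962.PP.PwPsl
import Cfsg.Agent.H667.Pw.L3
import Cfsg.Agent.H700.PwU.Row
import Cfsg.Agent.H649.PwSp.Big
import Cfsg.Agent.H649.PwSp.Two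
import Cfsg.Agent.H194.Pw.Own
import Cfsg.Agent.H194.Pw.Six
import Cfsg.Agent.H85.Pw.EBlk
import Cfsg.Agent.H85.Pw.ESix
import Cfsg.Agent.H85.Pw.FFour

/-!
# S2465: the rows of the groups of Lie type (helper346)

`Row P G = IsSimpleGroup G → Pw G`.  Each theorem `row_xxx` is the row of one family of `IsKnownSimple'`; the pieces
which are proved elsewhere are explicit hypotheses.
-/

set_option autoImplicit false

namespace Cfsg.Agent.H346.PwRows

open Cfsg Cfsg.Agent.H78.Pw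
open Cfsg.Agent.H514.DP (PW PE IsPE)

universe u

/-- two `r`-elements + own characteristic (`r ≥ 5`) or order prime to six (`r ≤ 3`) -/
theorem pw_of {r : ℕ} [hr : Fact r.Prime] {G : Type*} [Group G] (h : PW r 2 G) (hown : 5 ≤ r → All r G)
    (hsix : r < 5 → All 6 G) : Pw G := by
  have h' : ∀ g : G, ∃ a b : G, g = a * b ∧ (∃ k, a ^ r ^ k = 1) ∧ ∃ k, b ^ r ^ k = 1 := by
    intro g
    obtain ⟨a, b, ha, ⟨c, d, hc, hd, hcd⟩, hab⟩ := h g
    have hd1 : d = 1 := hd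
    rw [hd1, mul_one] at hcd
    rw [← hcd] at hab
    exact ⟨a, c, hab.symm, ha, hc⟩
  rcases lt_or_ge r 5 with h5 | h5
  · exact Cfsg.Agent.H335.Pw.pw_of_six hr.out h5 h' (hsix h5)
  · exact Cfsg.Agent.H335.Pw.pw_of_own hr.out h5 h' (hown h5)

/-- the characteristic of a finite field -/
theorem exists_char (F : Type*) [Field F] [Finite F] : ∃ r : ℕ, Fact r.Prime ∧ CharP F r := by
  obtain ⟨r, hr⟩ := CharP.exists F
  exact ⟨r, ⟨(CharP.char_is_prime_or_zero F r).resolve_right (CharP.char_ne_zero_of_finite F r)⟩, hr⟩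

theorem two_or_three {r : ℕ} (hr : r.Prime) (h5 : r < 5) : r = 2 ∨ r = 3 := by
  have h2 := hr.two_le
  have h4 : r ≠ 4 := by
    rintro rfl
    exact absurd hr (by decide)
  omega

theorem char_dvd {F : Type*} [Field F] [Finite F] {r : ℕ} [CharP F r] : r ∣ Nat.card F := by
  have := Fintype.ofFinite F
  obtain ⟨n, -, h⟩ := FiniteField.card F r
  rw [Nat.card_eq_fintype_card, h]
  exact dvd_pow_self r n.ne_zero

/-! ### Linear groups -/

/-- **PSL: complete** -/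
theorem row_psl {G : Type u} [Group G] (h : IsPSL G) : Pw G := by
  obtain ⟨F, _, _, n, hn, h4, ⟨e⟩⟩ := h
  refine Pw.congr e.symm ?_
  rcases (by omega : n = 2 ∨ n = 3 ∨ 4 ≤ n) with rfl | rfl | h'
  · exact Cfsg.Agent.H538.Pw.pw_l2 (h4 rfl)
  · by_cases h2 : Nat.card F = 2
    · exact ⟨Cfsg.Agent.H667.Pw.six_psl_three_two h2, fun _ hp h5 => Cfsg.Agent.H962.PP.allp_psl le_rfl hp h5⟩
    · by_cases h3 : Nat.card F = 3
      · exact ⟨Cfsg.Agent.H667.Pw.six_psl_three_three h3, fun _ hp h5 => Cfsg.Agent.H962.PP.allp_psl le_rfl hp h5⟩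
      · exact Cfsg.Agent.H962.PP.pw_psl_three F h2 h3
  · exact Cfsg.Agent.H962.PP.pw_psl h' F

/-! ### Symplectic groups -/

/-- **PSp** from characteristic 3 and `PSp₄(4)`. -/
theorem row_psp
    (h3 : ∀ (F : Type) [Field F] [Fintype F] [CharP F 3] (m : ℕ), 2 ≤ m → All 6 (PSp m F))
    (h4 : ∀ (F : Type) [Field F] [Fintype F], Fintype.card F = 4 → All 6 (PSp 2 F))
    {G : Type u} [Group G] [IsSimpleGroup G] (h : IsPSp G) : Pw G := by
  obtain ⟨F, _, _, m, hm, hF, ⟨e⟩⟩ := h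
  obtain ⟨r, hr, hc⟩ := exists_char F
  have hPW : PW r 2 G := Cfsg.Agent.H346.PwU.pw_psp ⟨F, inferInstance, inferInstance, hc, m, hm, hF, ⟨e⟩⟩
  refine pw_of hPW (fun h5 => (Cfsg.Agent.H649.PwSp.own_psp r hr.out h5 m).congr e.symm) (fun h5 => ?_)
  refine All.congr e.symm ?_
  rcases two_or_three hr.out h5 with rfl | rfl
  · by_cases h38 : 3 ≤ m ∨ 8 ≤ Fintype.card F
    · exact Cfsg.Agent.H649.PwSp.six_psp_two m h38
    · have hm2 : m = 2 := by omega
      subst hm2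
      refine h4 F ?_
      obtain ⟨n, -, hcard⟩ := FiniteField.card F 2
      have h8 : Fintype.card F < 8 := by omega
      have h3' := hF rfl
      rw [hcard] at h8 h3' ⊢
      have hn0 := n.pos
      have hn3 : (n : ℕ) < 3 := by
        by_contra hn
        have := Nat.pow_le_pow_right (n := 2) (by norm_num) (by omega : 3 ≤ (n : ℕ))
        omega
      obtain ⟨k, hk⟩ : ∃ k : ℕ, k = (n : ℕ) := ⟨_, rfl⟩
      rw [← hk] at h8 h3' hn0 hn3 ⊢
      interval_cases k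
      · norm_num at h3'
      · norm_num
  · exact h3 F m hm

/-! ### Unitary groups -/

/-- **PSU** from dimension 3. -/
theorem row_psu
    (h3 : ∀ (F : Type) [Field F] [Fintype F] (q : ℕ), Fintype.card F = q ^ 2 → q ≠ 2 → Pw (PSU 3 F q))
    {G : Type u} [Group G] [IsSimpleGroup G] (h : IsPSU G) : Pw G := by
  obtain ⟨F, _, _, n, q, hF, hn, hex, ⟨e⟩⟩ := h
  by_cases hn3 : n = 3
  · subst hn3
    exact Pw.congr e.symm (h3 F q hF fun h2 => hex ⟨rfl, h2⟩)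
  obtain ⟨r, hr, hc⟩ := exists_char F
  have hPW : PW r 2 G := Cfsg.Agent.H346.PwU.pw_psu ⟨F, inferInstance, inferInstance, hc, n, q, hF, hn, hex, ⟨e⟩⟩
  have hrq : r ∣ q := by
    have h1 : r ∣ q ^ 2 := by
      rw [← hF, ← Nat.card_eq_fintype_card]
      exact char_dvd
    exact hr.out.dvd_of_dvd_pow h1
  exact pw_of hPW (fun _ => (Cfsg.Agent.H700.PwU.own_psu n q (by omega) hF hr.out hrq).congr e.symm)
    (fun _ => (Cfsg.Agent.H700.PwU.six_psu n q (by omega) hF).congr e.symm)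

/-! ### Orthogonal groups -/

/-- **PΩ, odd dimension** -/
theorem row_poo
    (hown : ∀ (F : Type) [Field F] [Fintype F] (r : ℕ) [Fact r.Prime] [CharP F r] (m : ℕ), 5 ≤ r → 3 ≤ m →
      All r (POmega F (quadFormOdd m F)))
    (hsix : ∀ (F : Type) [Field F] [Fintype F] [CharP F 3] (m : ℕ), 3 ≤ m → All 6 (POmega F (quadFormOdd m F)))
    {G : Type u} [Group G] [IsSimpleGroup G] (h : IsPOmegaOdd G) : Pw G := by
  obtain ⟨F, _, _, m, hm, ho, ⟨e⟩⟩ := h
  obtain ⟨r, hr, hc⟩ := exists_char F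
  have hPW : PW r 2 G := Cfsg.Agent.H346.PwU.pw_odd ⟨F, inferInstance, inferInstance, hc, m, hm, ho, ⟨e⟩⟩
  refine pw_of hPW (fun h5 => (hown F r m h5 hm).congr e.symm) (fun h5 => ?_)
  rcases two_or_three hr.out h5 with rfl | rfl
  · have h2 : 2 ∣ Nat.card F := char_dvd
    rw [Nat.card_eq_fintype_card] at h2
    exact absurd ho (Nat.not_odd_iff_even.2 (even_iff_two_dvd.2 h2))
  · exact (hsix F m hm).congr e.symm

/-- **PΩ⁺** -/
theorem row_pop
    (hown : ∀ (F : Type) [Field F] [Fintype F] (r : ℕ) [Fact r.Prime] [CharP F r] (m : ℕ), 5 ≤ r → 4 ≤ m →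
      All r (POmega F (quadFormPlus m F)))
    (hsix : ∀ (F : Type) [Field F] [Fintype F] (r : ℕ) [Fact r.Prime] [CharP F r] (m : ℕ), r < 5 → 4 ≤ m →
      All 6 (POmega F (quadFormPlus m F)))
    {G : Type u} [Group G] [IsSimpleGroup G] (h : IsPOmegaPlus G) : Pw G := by
  obtain ⟨F, _, _, m, hm, ⟨e⟩⟩ := h
  obtain ⟨r, hr, hc⟩ := exists_char F
  have hPW : PW r 2 G := Cfsg.Agent.H346.PwU.pw_plus ⟨F, inferInstance, inferInstance, hc, m, hm, ⟨e⟩⟩
  exact pw_of hPW (fun h5 => (hown F r m h5 hm).congr e.symm) (fun h5 => (hsix F r m h5 hm).congr e.symm)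

/-- **PΩ⁻** -/
theorem row_pom
    (hown : ∀ (F : Type) [Field F] [Fintype F] (r : ℕ) [Fact r.Prime] [CharP F r] (m : ℕ) (a b : F), 5 ≤ r → 4 ≤ m →
      (∀ z₁ z₂ : F, z₁ ^ 2 + a * z₁ * z₂ + b * z₂ ^ 2 = 0 → z₁ = 0 ∧ z₂ = 0) →
        All r (POmega F (quadFormMinus (m - 1) F a b)))
    (hsix : ∀ (F : Type) [Field F] [Fintype F] (r : ℕ) [Fact r.Prime] [CharP F r] (m : ℕ) (a b : F), r < 5 → 4 ≤ m →
      (∀ z₁ z₂ : F, z₁ ^ 2 + a * z₁ * z₂ + b * z₂ ^ 2 = 0 → z₁ = 0 ∧ z₂ = 0) →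
        All 6 (POmega F (quadFormMinus (m - 1) F a b)))
    {G : Type u} [Group G] [IsSimpleGroup G] (h : IsPOmegaMinus G) : Pw G := by
  obtain ⟨F, _, _, m, a, b, hm, hab, ⟨e⟩⟩ := h
  obtain ⟨r, hr, hc⟩ := exists_char F
  have hPW : PW r 2 G := Cfsg.Agent.H346.PwU.pw_minus ⟨F, inferInstance, inferInstance, hc, m, a, b, hm, hab, ⟨e⟩⟩
  exact pw_of hPW (fun h5 => (hown F r m a b h5 hm hab).congr e.symm)
    (fun h5 => (hsix F r m a b h5 hm hab).congr e.symm)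

/-! ### Exceptional groups -/

/-- **G₂** -/
theorem row_g2 (h3 : ∀ (F : Type) [Field F] [Fintype F], Fintype.card F = 3 → All 6 ↥(Lie.chevG2.group F))
    (h4 : ∀ (F : Type) [Field F] [Fintype F], Fintype.card F = 4 → All 6 ↥(Lie.chevG2.group F))
    (h9 : ∀ (F : Type) [Field F] [Fintype F], Fintype.card F = 9 → All 6 ↥(Lie.chevG2.group F))
    {G : Type u} [Group G] (h : Lie.IsoChevG2 G) : Pw G := by
  obtain ⟨F, _, _, hF, ⟨e⟩⟩ := h
  refine Pw.congr e.symm (Cfsg.Agent.H538.Pw.pw_g2_of hF ?_)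
  rintro (h | h | h)
  · exact h3 F h
  · exact h4 F h
  · exact h9 F h

theorem card_ge {F : Type*} [Field F] [Finite F] {r : ℕ} [CharP F r] (h : 5 ≤ r) : 5 ≤ Nat.card F :=
  h.trans (Nat.le_of_dvd Nat.card_pos char_dvd)

theorem card_cases {F : Type*} [Field F] [Finite F] (h : ¬ 4 ≤ Nat.card F) : Nat.card F = 2 ∨ Nat.card F = 3 := by
  have : 1 < Nat.card F := Finite.one_lt_card
  omega

/-- **F₄** from `F₄(2)`, `F₄(3)` -/
theorem row_f4 (h2 : ∀ (F : Type) [Field F] [Fintype F], Nat.card F = 2 → All 6 ↥(Lie.chevF4.group F))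
    (h3 : ∀ (F : Type) [Field F] [Fintype F], Nat.card F = 3 → All 6 ↥(Lie.chevF4.group F))
    {G : Type u} [Group G] [IsSimpleGroup G] (h : Lie.IsoF4 G) : Pw G := by
  obtain ⟨F, _, _, ⟨e⟩⟩ := h
  obtain ⟨r, hr, hc⟩ := exists_char F
  have hPW : PW r 2 G := Cfsg.Agent.H346.PwU.pw_exc ⟨F, inferInstance, inferInstance, hc, Or.inr (Or.inl ⟨e⟩)⟩
  refine pw_of hPW (fun h5 => ?_) (fun h5 => ?_)
  · exact (Cfsg.Agent.H194.Pw.own_F4 (by have := card_ge (F := F) h5; omega) r).congr e.symm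
  · refine All.congr e.symm ?_
    by_cases h4 : 4 ≤ Nat.card F
    · refine Cfsg.Agent.H85.Pw.FFour.six_F4 h4 ?_
      rcases two_or_three hr.out h5 with rfl | rfl
      · exact Or.inl char_dvd
      · exact Or.inr char_dvd
    · rcases card_cases h4 with h | h
      · exact h2 F h
      · exact h3 F h

/-- **E₆** from `E₆(2)`, `E₆(3)` and `P5` -/
theorem row_e6 (h2 : ∀ (F : Type) [Field F] [Fintype F], Nat.card F = 2 → All 6 ↥(Lie.chevE6.group F))
    (h3 : ∀ (F : Type) [Field F] [Fintype F], Nat.card F = 3 → All 6 ↥(Lie.chevE6.group F))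
    (hP5 : ∀ (F : Type) [Field F] [Fintype F], 4 ≤ Nat.card F → (2 ∣ Nat.card F ∨ 3 ∣ Nat.card F) →
      Cfsg.Agent.H194.Pw.P5 F)
    {G : Type u} [Group G] [IsSimpleGroup G] (h : Lie.IsoChevE6 G) : Pw G := by
  obtain ⟨F, _, _, ⟨e⟩⟩ := h
  obtain ⟨r, hr, hc⟩ := exists_char F
  have hPW : PW r 2 G := Cfsg.Agent.H346.PwU.pw_exc ⟨F, inferInstance, inferInstance, hc, Or.inr (Or.inr (Or.inl ⟨e⟩))⟩
  refine pw_of hPW (fun h5 => ?_) (fun h5 => ?_)
  · exact (Cfsg.Agent.H194.Pw.own_E6 (by have := card_ge (F := F) h5; omega) r).congr e.symm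
  · refine All.congr e.symm ?_
    by_cases h4 : 4 ≤ Nat.card F
    · have hd : 2 ∣ Nat.card F ∨ 3 ∣ Nat.card F := by
        rcases two_or_three hr.out h5 with rfl | rfl
        · exact Or.inl char_dvd
        · exact Or.inr char_dvd
      exact Cfsg.Agent.H194.Pw.six_E6_of h4 hd (hP5 F h4 hd)
    · rcases card_cases h4 with h | h
      · exact h2 F h
      · exact h3 F h

/-- **E₇** from `q = 2, 3, 4, 8, 9` -/
theorem row_e7 (hs : ∀ (F : Type) [Field F] [Fintype F], Nat.card F = 2 ∨ Nat.card F = 3 ∨ Nat.card F = 4 ∨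
      Nat.card F = 8 ∨ Nat.card F = 9 → All 6 ↥(Lie.chevE7.group F))
    {G : Type u} [Group G] [IsSimpleGroup G] (h : Lie.IsoE7 G) : Pw G := by
  obtain ⟨F, _, _, ⟨e⟩⟩ := h
  obtain ⟨r, hr, hc⟩ := exists_char F
  have hPW : PW r 2 G := Cfsg.Agent.H346.PwU.pw_exc ⟨F, inferInstance, inferInstance, hc, Or.inr (Or.inr (Or.inr (Or.inl ⟨e⟩)))⟩
  refine pw_of hPW (fun h5 => ?_) (fun h5 => ?_)
  · exact (Cfsg.Agent.H85.Pw.own_E7 F (by have := card_ge (F := F) h5; omega) r).congr e.symm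
  · refine All.congr e.symm ?_
    by_cases hq : Nat.card F = 2 ∨ Nat.card F = 3 ∨ Nat.card F = 4 ∨ Nat.card F = 8 ∨ Nat.card F = 9
    · exact hs F hq
    · have hd : CharP F 2 ∨ CharP F 3 := by
        rcases two_or_three hr.out h5 with rfl | rfl
        · exact Or.inl hc
        · exact Or.inr hc
      exact Cfsg.Agent.H85.Pw.six_E7 F hd (by tauto) (by tauto) (by tauto) (by tauto) (by tauto)

/-- **E₈** from `q = 2, 3, 4, 9` -/
theorem row_e8 (hs : ∀ (F : Type) [Field F] [Fintype F], Nat.card F = 2 ∨ Nat.card F = 3 ∨ Nat.card F = 4 ∨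
      Nat.card F = 9 → All 6 ↥(Lie.chevE8.group F))
    {G : Type u} [Group G] [IsSimpleGroup G] (h : Lie.IsoE8 G) : Pw G := by
  obtain ⟨F, _, _, ⟨e⟩⟩ := h
  obtain ⟨r, hr, hc⟩ := exists_char F
  have hPW : PW r 2 G := Cfsg.Agent.H346.PwU.pw_exc ⟨F, inferInstance, inferInstance, hc, Or.inr (Or.inr (Or.inr (Or.inr ⟨e⟩)))⟩
  refine pw_of hPW (fun h5 => ?_) (fun h5 => ?_)
  · exact (Cfsg.Agent.H85.Pw.own_E8 F (by have := card_ge (F := F) h5; omega) r).congr e.symm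
  · refine All.congr e.symm ?_
    by_cases hq : Nat.card F = 2 ∨ Nat.card F = 3 ∨ Nat.card F = 4 ∨ Nat.card F = 9
    · exact hs F hq
    · have hd : CharP F 2 ∨ CharP F 3 := by
        rcases two_or_three hr.out h5 with rfl | rfl
        · exact Or.inl hc
        · exact Or.inr hc
      exact Cfsg.Agent.H85.Pw.six_E8 F hd (by tauto) (by tauto) (by tauto) (by tauto)

/-- **²E₆** -/
theorem row_te6
    (hown : ∀ (K : Type) [Field K] [Fintype K] (q r : ℕ) [Fact r.Prime] [CharP K r], IsPrimePow q →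
      Fintype.card K = q ^ 2 → 5 ≤ r → All r ↥(Lie.twistedE6 K q))
    (hsix : ∀ (K : Type) [Field K] [Fintype K] (q r : ℕ) [Fact r.Prime] [CharP K r], IsPrimePow q →
      Fintype.card K = q ^ 2 → r < 5 → All 6 ↥(Lie.twistedE6 K q))
    {G : Type u} [Group G] [IsSimpleGroup G] (h : Lie.Iso2E6 G) : Pw G := by
  obtain ⟨K, _, _, q, hq, hK, ⟨e⟩⟩ := h
  obtain ⟨r, hr, hc⟩ := exists_char K
  have hPW : PW r 2 G := Cfsg.Agent.H773.TwU.pw_twisted ⟨K, inferInstance, inferInstance, hc, q, hq, Or.inl ⟨hK, ⟨e⟩⟩⟩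
  exact pw_of hPW (fun h5 => (hown K q r hq hK h5).congr e.symm) (fun h5 => (hsix K q r hq hK h5).congr e.symm)

/-- **³D₄** from `q = 2, 3` -/
theorem row_td4
    (h2 : ∀ (K : Type) [Field K] [Fintype K], Fintype.card K = 2 ^ 3 → All 6 ↥(Lie.twistedD4 K 2))
    (h3 : ∀ (K : Type) [Field K] [Fintype K], Fintype.card K = 3 ^ 3 → All 6 ↥(Lie.twistedD4 K 3))
    {G : Type u} [Group G] (h : Lie.Iso3D4 G) : Pw G := by
  obtain ⟨K, _, _, q, hq, hK, ⟨e⟩⟩ := h
  refine Pw.congr e.symm (Cfsg.Agent.H538.Pw.pw_d4_of hq hK ?_)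
  rintro (rfl | rfl)
  · exact h2 K hK
  · exact h3 K hK

/-- **²F₄: complete** -/
theorem row_tf4 {G : Type u} [Group G] (h : Lie.Iso2F4 G) : Pw G := by
  have : Fact (Nat.Prime 2) := ⟨Nat.prime_two⟩
  exact pw_of (r := 2) (Cfsg.Agent.H346.PwU.pw_2f4 h) (fun h5 => absurd h5 (by norm_num))
    (fun _ => Cfsg.Agent.H335.Pw.six_2F4 h)

/-- **Suzuki groups: complete** -/
theorem row_sz {G : Type u} [Group G] (h : Lie.IsoSuzuki G) : Pw G := Cfsg.Agent.H335.Pw.pw_sz h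

/-- **Ree groups: complete** -/
theorem row_ree {G : Type u} [Group G] (h : Lie.IsoRee G) : Pw G := Cfsg.Agent.H335.Pw.pw_ree h

/-- **Tits group: complete** -/
theorem row_tits {G : Type u} [Group G] (h : Lie.IsoTits G) : Pw G := Cfsg.Agent.H335.Pw.pw_tits h

end Cfsg.Agent.H346.PwRows
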