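import Cfsg.Agent.H346.Pw.Rows
import Cfsg.Agent.H194.Pw.SixAll
import Cfsg.Agent.H150.Pw.EThree
import Cfsg.Agent.H224.Pw.ESeven
import Cfsg.Agent.H85.Pw.ESevenSix
import Cfsg.Agent.H267.Ore.ESevenPw
import Cfsg.Agent.H928.Pw.Row
import Cfsg.Agent.H538.Pw.GFour
import Cfsg.Agent.H983.Pw.GTwoThree
import Cfsg.Agent.H876.PwU3.Row
import Cfsg.Agent.H649.PwSp.Row

/-!
# S2465: rows of the groups of Lie type, second part (helper346)

`row_e6'`, `row_e7'`, `row_te6'`, `row_psu'` have no hypotheses; `row_g2'` needs only `G₂(9)`, `row_psp'` only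
`PSp₄(4)` and `PSp₄(9)`.
-/

set_option autoImplicit false

namespace Cfsg.Agent.H346.PwRows

open Cfsg Cfsg.Agent.H78.Pw

universe u

/-- **E₆: complete** -/
theorem row_e6' {G : Type u} [Group G] [IsSimpleGroup G] (h : Lie.IsoChevE6 G) : Pw G := by
  obtain ⟨F, _, _, ⟨e⟩⟩ := h
  obtain ⟨r, hr, hc⟩ := exists_char F
  have hPW : Cfsg.Agent.H514.DP.PW r 2 G :=
    Cfsg.Agent.H346.PwU.pw_exc ⟨F, inferInstance, inferInstance, hc, Or.inr (Or.inr (Or.inl ⟨e⟩))⟩
  refine pw_of hPW (fun h5 => ?_) (fun h5 => ?_)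
  · exact (Cfsg.Agent.H194.Pw.own_E6 (by have := card_ge (F := F) h5; omega) r).congr e.symm
  · refine All.congr e.symm ?_
    by_cases h4 : 4 ≤ Nat.card F
    · refine Cfsg.Agent.H194.Pw.six_E6 h4 ?_
      rcases two_or_three hr.out h5 with rfl | rfl
      · exact Or.inl char_dvd
      · exact Or.inr char_dvd
    · rcases card_cases h4 with h | h
      · exact Cfsg.Agent.H150.Pw.six_E6_two h
      · exact Cfsg.Agent.H150.Pw.six_E6_three h

/-- **E₇: complete** -/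
theorem row_e7' {G : Type u} [Group G] [IsSimpleGroup G] (h : Lie.IsoE7 G) : Pw G := by
  refine row_e7 (fun F _ _ h => ?_) h
  rcases h with h | h | h | h | h
  · exact Cfsg.Agent.H267.Ore.six_E7_two (by rw [← Nat.card_eq_fintype_card]; exact h)
  · exact Cfsg.Agent.H85.Pw.ESevenThree.six_E7_three h
  · exact Cfsg.Agent.H224.Pw.six_E7_small (Or.inl h)
  · exact Cfsg.Agent.H224.Pw.six_E7_small (Or.inr (Or.inl h))
  · exact Cfsg.Agent.H224.Pw.six_E7_small (Or.inr (Or.inr h))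

/-- **²E₆: complete** -/
theorem row_te6' {G : Type u} [Group G] (h : Lie.Iso2E6 G) : Pw G := by
  obtain ⟨K, _, _, q, hq, hK, ⟨e⟩⟩ := h
  exact Pw.congr e.symm (Cfsg.Agent.H928.Pw.Row.pw hq hK)

/-- **G₂** from `G₂(9)` -/
theorem row_g2' (h9 : ∀ (F : Type) [Field F] [Fintype F], Fintype.card F = 9 → All 6 ↥(Lie.chevG2.group F))
    {G : Type u} [Group G] (h : Lie.IsoChevG2 G) : Pw G :=
  row_g2 (fun _ _ _ h => Cfsg.Agent.H983.Pw.six_g2_three h) (fun F _ _ h => Cfsg.Agent.H538.Pw.GFour.six_g2_four F h) h9 h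

/-- **PSU: complete** -/
theorem row_psu' {G : Type u} [Group G] [IsSimpleGroup G] (h : IsPSU G) : Pw G :=
  row_psu (fun F _ _ q hF hq => Cfsg.Agent.H876.PwU3.pw_psu_three F q hF hq) h

/-- **PSp** from `PSp₄(4)`, `PSp₄(9)` -/
theorem row_psp' (h4 : ∀ (F : Type) [Field F] [Fintype F], Fintype.card F = 4 → All 6 (PSp 2 F))
    (h9 : ∀ (F : Type) [Field F] [Fintype F], Fintype.card F = 9 → All 6 (PSp 2 F))
    {G : Type u} [Group G] [IsSimpleGroup G] (h : IsPSp G) : Pw G :=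
  row_psp (fun F _ _ _ m hm => Cfsg.Agent.H649.PwSp.six_psp_char_three h9 F m hm) h4 h

end Cfsg.Agent.H346.PwRows
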