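import Cfsg.Agent.H346.Pw.Rows2
import Cfsg.Agent.H649.PwSp.Final
import Cfsg.Agent.H227.Pw.GNine
import Cfsg.Agent.H347.HX.D42.Main
import Cfsg.Agent.H922.TD.Main
import Cfsg.Agent.H124.PwO.Plus
import Cfsg.Agent.H124.PwO.Minus
import Cfsg.Agent.H335.FT.PsRow
import Cfsg.Agent.H122.Pw.EightThree
import Cfsg.Agent.H85.Pw.EEightFour
import Cfsg.Agent.H267.Ore.EEightPw
import Cfsg.Agent.H367.PO.Row

/-!
# S2465: rows of the groups of Lie type, third part (helper346)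

No hypotheses: `row_psp_fin`, `row_poo_fin`, `row_pop_fin`, `row_g2_fin`, `row_td4_fin` (and in part two `row_e6'`, `row_e7'`,
`row_te6'`, `row_psu'`; in part one `row_psl`, `row_tf4`, `row_sz`, `row_ree`, `row_tits`).
With hypotheses: `row_pom_of` (small fields), `row_f4_of` (`F₄(3)`), `row_e8_of` (`E₈(9)`).
-/

set_option autoImplicit false

namespace Cfsg.Agent.H346.PwRows

open Cfsg Cfsg.Agent.H78.Pw

universe u

/-- **PSp: complete** -/
theorem row_psp_fin {G : Type u} [Group G] [IsSimpleGroup G] (h : IsPSp G) : Pw G :=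
  row_psp Cfsg.Agent.H649.PwSp.six_psp_all_three Cfsg.Agent.H649.PwSp.six_psp_four_four h

/-- **PΩ⁺: complete** -/
theorem row_pop_fin {G : Type u} [Group G] [IsSimpleGroup G] (h : IsPOmegaPlus G) : Pw G :=
  row_pop Cfsg.Agent.H124.PwO.own_plus Cfsg.Agent.H124.PwO.six_plus h

/-- **PΩ of odd dimension: complete** -/
theorem row_poo_fin {G : Type u} [Group G] [IsSimpleGroup G] (h : IsPOmegaOdd G) : Pw G :=
  row_poo (fun F _ _ r _ _ m h5 hm => Cfsg.Agent.H367.PO.own_row F r m h5 hm)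
    (fun F _ _ _ m hm => Cfsg.Agent.H367.PO.six_row F m hm) h

/-- **PΩ⁻** from the small fields -/
theorem row_pom_of (H : ∀ (F : Type) [Field F] [Fintype F] (m : ℕ) (a b : F), 4 ≤ m → Cfsg.Agent.H124.PwO.Rest F m →
      (∀ z₁ z₂ : F, z₁ ^ 2 + a * z₁ * z₂ + b * z₂ ^ 2 = 0 → z₁ = 0 ∧ z₂ = 0) →
      All 6 (POmega F (quadFormMinus (m - 1) F a b)))
    {G : Type u} [Group G] [IsSimpleGroup G] (h : IsPOmegaMinus G) : Pw G :=
  row_pom (fun F _ _ r _ _ m a b h5 hm hab => Cfsg.Agent.H124.PwO.own_minus F r m a b h5 hm hab)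
    (fun F _ _ r _ _ m a b h5 hm hab => Cfsg.Agent.H124.PwO.six_minus_of H F r m a b h5 hm hab) h

/-- **G₂: complete** -/
theorem row_g2_fin {G : Type u} [Group G] (h : Lie.IsoChevG2 G) : Pw G :=
  row_g2' (fun _ _ _ h => Cfsg.Agent.H227.Pw.six_g2_nine h) h

/-- **³D₄: complete** -/
theorem row_td4_fin {G : Type u} [Group G] (h : Lie.Iso3D4 G) : Pw G :=
  row_td4 (fun K _ _ h => Cfsg.Agent.H347.HX.D42.six_td4_two K h) (fun _ _ _ h => Cfsg.Agent.H922.TD.six_td4_three h) h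

/-- **F₄** from `F₄(3)` -/
theorem row_f4_of (h3 : ∀ (F : Type) [Field F] [Fintype F], Nat.card F = 3 → All 6 ↥(Lie.chevF4.group F))
    {G : Type u} [Group G] [IsSimpleGroup G] (h : Lie.IsoF4 G) : Pw G :=
  row_f4 (fun _ _ _ h => Cfsg.Agent.H335.FT.row_two h) h3 h

/-- **E₈** from `E₈(9)` -/
theorem row_e8_of (h9 : ∀ (F : Type) [Field F] [Fintype F], Nat.card F = 9 → All 6 ↥(Lie.chevE8.group F))
    {G : Type u} [Group G] [IsSimpleGroup G] (h : Lie.IsoE8 G) : Pw G := by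
  refine row_e8 (fun F _ _ h => ?_) h
  rcases h with h | h | h | h
  · exact Cfsg.Agent.H267.Ore.EEight.six_E8_two h
  · exact Cfsg.Agent.H122.Pw.six_E8_three' h
  · exact Cfsg.Agent.H85.Pw.six_E8_4 h
  · exact h9 F h

end Cfsg.Agent.H346.PwRows
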